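import Mathlib

/-!
# Involutions of simply laced unipotent groups in characteristic two: abstract setting (helper17)
-/

set_option autoImplicit false

namespace Cfsg.Agent.Lib.Helper17.E6I

/-- an abstract "simply laced unipotent group in characteristic 2": root elements `x r t` for the
positive roots `lo ≤ r < n` (the order of the indices is compatible with the addition of roots),
`add r s` = the root `r + s` if it is one, `orth r s` = orthogonality. -/
structure RS (G : Type*) [Group G] (F : Type*) [Field F] where
  lo : ℕ
  n : ℕ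
  x : ℕ → F → G
  add : ℕ → ℕ → Option ℕ
  orth : ℕ → ℕ → Prop
  x_add : ∀ r t u, x r t * x r u = x r (t + u)
  comm_none : ∀ r s, lo ≤ r → r < n → lo ≤ s → s < n → add r s = none →
    ∀ t u, x r t * x s u = x s u * x r t
  conj_some : ∀ r s k, lo ≤ r → r < n → lo ≤ s → s < n → add r s = some k →
    ∀ t u, x r t * x s u * (x r t)⁻¹ = x s u * x k (t * u)
  add_lt : ∀ r s k, add r s = some k → r < k ∧ s < k ∧ k < n
  add_symm : ∀ r s, add r s = add s r
  add_mono : ∀ s r r' k k', add s r = some k → add s r' = some k' → r < r' → k < k'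
  inj : ∀ c c' : ℕ → F,
    ((List.range' lo (n - lo)).map fun r => x r (c r)).prod =
      ((List.range' lo (n - lo)).map fun r => x r (c' r)).prod → ∀ r, lo ≤ r → r < n → c r = c' r
  tri : ∀ r0 r, lo ≤ r0 → r0 < r → r < n →
    orth r0 r ∨ (∃ d, add r0 d = some r) ∨ (∃ p, add r0 r = some p)
  orth_none : ∀ r0 r, orth r0 r → add r0 r = none
  orth_add : ∀ r0 a b k, orth r0 a → orth r0 b → add a b = some k → orth r0 k
  orth_sub : ∀ r0 a d k, orth r0 a → orth r0 k → add a d = some k → orth r0 d
  good_add : ∀ r0 a b k d, r0 < a → r0 < b → add a b = some k → add r0 d = some k →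
    (∃ d', add r0 d' = some a) ∨ (∃ d', add r0 d' = some b)

variable {G : Type*} [Group G] {F : Type*} [Field F] (R : RS G F)

/-- a set of positive roots closed under addition -/
structure AddClosed (act : ℕ → Prop) : Prop where
  bd : ∀ r, act r → R.lo ≤ r ∧ r < R.n
  add : ∀ a b k, act a → act b → R.add a b = some k → act k

/-- closed under addition and subtraction -/
structure Closed (act : ℕ → Prop) : Prop extends AddClosed R act where
  sub : ∀ a d k, act a → act k → R.add a d = some k → act d

/-- the subgroup generated by the root elements `x r t`, `act r`, `k ≤ r` -/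
def V (act : ℕ → Prop) (k : ℕ) : Subgroup G :=
  Subgroup.closure {g | ∃ r t, act r ∧ k ≤ r ∧ g = R.x r t}

/-- ordered products -/
def lp (L : List ℕ) (c : ℕ → F) : G := (L.map fun r => R.x r (c r)).prod

/-- the roots `r` of `act` such that `r - r0` is not a root of `act` -/
def gd (act : ℕ → Prop) (r0 : ℕ) : ℕ → Prop := fun r => act r ∧ ¬ ∃ d, act d ∧ R.add r0 d = some r

/-- the roots of `act` orthogonal to `r0` -/
def oc (act : ℕ → Prop) (r0 : ℕ) : ℕ → Prop := fun r => act r ∧ R.orth r0 r

end Cfsg.Agent.Lib.Helper17.E6I
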