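import Cfsg.Agent.Lib.Helper65.E6I.A2
import Cfsg.Agent.Lib.Helper88.E6I.A6
import Cfsg.Agent.Lib.Helper88.E6I.A7

set_option autoImplicit false

/-! # the abstract reduction theorem (helper17) -/

namespace Cfsg.Agent.Lib.Helper17.E6I

open Cfsg.Agent.Lib.Helper65.E6I Cfsg.Agent.Lib.Helper88.E6I

variable {G : Type*} [Group G] {F : Type*} [Field F] (R : RS G F)

theorem V_mono {act act' : ℕ → Prop} (h : ∀ r, act r → act' r) {k k' : ℕ} (hk : k' ≤ k) :
    V R act k ≤ V R act' k' := by
  apply Subgroup.closure_mono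
  rintro g ⟨r, t, hr, hkr, rfl⟩
  exact ⟨r, t, h r hr, hk.trans hkr, rfl⟩

theorem x_zero (r : ℕ) : R.x r 0 = 1 := by
  have := R.x_add r 0 0
  rw [add_zero] at this
  exact mul_eq_left.mp this

theorem x_sq [CharP F 2] (r : ℕ) (t : F) : R.x r t * R.x r t = 1 := by
  rw [R.x_add, CharTwo.add_self_eq_zero, x_zero]

theorem V_top {act : ℕ → Prop} (h : AddClosed R act) {k : ℕ} (hk : R.n ≤ k) : V R act k = ⊥ := by
  rw [V, Subgroup.closure_eq_bot_iff]
  rintro g ⟨r, t, hr, hkr, rfl⟩
  exact absurd (h.bd r hr).2 (by omega)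

theorem oc_closed {act : ℕ → Prop} (h : Closed R act) (r0 : ℕ) : Closed R (oc R act r0) where
  bd r hr := h.bd r hr.1
  add a b k ha hb hk := ⟨h.add a b k ha.1 hb.1 hk, R.orth_add r0 a b k ha.2 hb.2 hk⟩
  sub a d k ha hk hd := ⟨h.sub a d k ha.1 hk.1 hd, R.orth_sub r0 a d k ha.2 hk.2 hd⟩

theorem comm_oc {act : ℕ → Prop} (h : Closed R act) {r0 : ℕ} (hr0 : act r0) (c : F) {k : ℕ} {w : G}
    (hw : w ∈ V R (oc R act r0) k) : R.x r0 c * w = w * R.x r0 c := by
  have : w ∈ Subgroup.centralizer {R.x r0 c} := by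
    revert w
    change V R (oc R act r0) k ≤ _
    rw [V, Subgroup.closure_le]
    rintro g ⟨r, t, hr, -, rfl⟩
    rw [SetLike.mem_coe, Subgroup.mem_centralizer_singleton_iff]
    exact (R.comm_none r0 r (h.bd _ hr0).1 (h.bd _ hr0).2 (h.bd _ hr.1).1 (h.bd _ hr.1).2
      (R.orth_none r0 r hr.2) c t).symm
  rw [Subgroup.mem_centralizer_singleton_iff] at this
  exact this.symm

theorem main [CharP F 2] : ∀ (j k : ℕ), R.n - k ≤ j → ∀ act : ℕ → Prop, Closed R act →
    ∀ u ∈ V R act k, u * u = 1 → ∃ g ∈ V R act R.lo, ∃ (O : List ℕ) (c : ℕ → F),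
      (∀ o ∈ O, act o ∧ k ≤ o ∧ c o ≠ 0) ∧ O.Pairwise R.orth ∧ g * u * g⁻¹ = lp R O c := by
  intro j
  induction j with
  | zero =>
    intro k hk act h u hu _
    rw [V_top R h.toAddClosed (by omega), Subgroup.mem_bot] at hu
    subst hu
    exact ⟨1, one_mem _, [], fun _ => 0, by simp, List.Pairwise.nil, by simp [lp]⟩
  | succ j ih =>
    intro k hk act h u hu hsq
    obtain ⟨e, y', hy', he, rfl⟩ := V_decomp R h.toAddClosed hu
    by_cases he0 : e = 0
    · subst he0
      rw [x_zero, one_mul] at hsq ⊢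
      obtain ⟨g, hg, O, c, h1, h2, h3⟩ := ih (k + 1) (by omega) act h y' hy' hsq
      exact ⟨g, hg, O, c, fun o ho => ⟨(h1 o ho).1, by have := (h1 o ho).2.1; omega, (h1 o ho).2.2⟩, h2, h3⟩
    · have hk' : act k := by
        by_contra hcon
        exact he0 (he hcon)
      obtain ⟨g1, hg1, w, hw, e1⟩ := stage R h hk' he0 hy'
      have hsq1 : (R.x k e * w) * (R.x k e * w) = 1 := by
        rw [← e1]
        calc g1 * (R.x k e * y') * g1⁻¹ * (g1 * (R.x k e * y') * g1⁻¹)
            = g1 * ((R.x k e * y') * (R.x k e * y')) * g1⁻¹ := by group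
          _ = 1 := by rw [hsq]; group
      have hw2 := step2 R h hk' he0 hw hsq1
      have hcw := comm_oc R h hk' e hw2
      have hww : w * w = 1 := by
        calc w * w = (R.x k e * R.x k e) * (w * w) := by rw [x_sq, one_mul]
          _ = R.x k e * (R.x k e * w) * w := by group
          _ = R.x k e * (w * R.x k e) * w := by rw [hcw]
          _ = (R.x k e * w) * (R.x k e * w) := by group
          _ = 1 := hsq1
      obtain ⟨g2, hg2, O, c, h1, h2, h3⟩ := ih (k + 1) (by omega) _ (oc_closed R h k) w hw2 hww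
      have hcg := comm_oc R h hk' e hg2
      refine ⟨g2 * g1, mul_mem (V_mono R (fun r hr => hr.1) le_rfl hg2) hg1, k :: O,
        fun r => if r = k then e else c r, ?_, ?_, ?_⟩
      · intro o ho
        rcases List.mem_cons.mp ho with rfl | ho
        · exact ⟨hk', le_rfl, by simpa using he0⟩
        · have := h1 o ho
          have hne : o ≠ k := by omega
          exact ⟨this.1.1, by omega, by simpa [hne] using this.2.2⟩
      · rw [List.pairwise_cons]
        exact ⟨fun o ho => (h1 o ho).1.2, h2⟩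
      · have e2 : g2 * g1 * (R.x k e * y') * (g2 * g1)⁻¹ = g2 * (g1 * (R.x k e * y') * g1⁻¹) * g2⁻¹ := by
          group
        rw [e2, e1]
        have e3 : g2 * (R.x k e * w) * g2⁻¹ = R.x k e * (g2 * w * g2⁻¹) := by
          calc g2 * (R.x k e * w) * g2⁻¹ = (g2 * R.x k e) * w * g2⁻¹ := by group
            _ = (R.x k e * g2) * w * g2⁻¹ := by rw [hcg]
            _ = _ := by group
        rw [e3, h3]
        unfold lp
        rw [List.map_cons, List.prod_cons]
        beta_reduce
        rw [if_pos rfl]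
        congr 2
        apply List.map_congr_left
        intro o ho
        have := (h1 o ho).2.1
        have hne : o ≠ k := by omega
        rw [if_neg hne]

end Cfsg.Agent.Lib.Helper17.E6I
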